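import Cfsg.Agent.Lib.Helper2.PP.Defs
import Cfsg.Agent.Lib.Helper11.NormStable

/-!
# S3753 (PP): package [F1]

`p`-stability on `O_p(M)`: a subgroup of `M` acting quadratically on `O_p(M)` lies in `O_p(M)`.
-/

set_option autoImplicit false
open scoped commutatorElement

namespace Cfsg.Agent.Lib.Helper77.PP

open Cfsg.Agent.Lib.Helper2.PP Cfsg.Agent.Lib.Helper11

universe u

/-- [F1] -/
theorem pkgF1 : PkgF1.{u} := by
  intro G _ _ p _ hp M X h2 hc hXM hquad
  set P : Subgroup ↥M := Cfsg.pCore p ↥M with hPdef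
  have hPn : P.Normal := Subgroup.sSup_normal _ (fun _ h => h.1)
  have hPp : IsPGroup p P := pCore_isPGroup' p ↥M
  have hns : NoSL2 p (⊤ : Subgroup ↥M) := noSL2_of_twoAb hp h2.subtype
  have hst := isPStableOn_pGroup_of_noSL2 hp hns P hPp
  intro x hx
  set a : ↥M := ⟨x, hXM hx⟩ with ha
  have hq : ⁅⁅P, Subgroup.zpowers a⁆, Subgroup.zpowers a⁆ = ⊥ := by
    rw [← Subgroup.map_eq_bot_iff_of_injective _ M.subtype_injective, Subgroup.map_commutator,
      Subgroup.map_commutator, eq_bot_iff, ← hquad]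
    have h1 : P.map M.subtype ≤ Qof p M := le_rfl
    have h2' : (Subgroup.zpowers a).map M.subtype ≤ X := by
      rw [MonoidHom.map_zpowers, Subgroup.zpowers_le]
      exact hx
    exact Subgroup.commutator_mono (Subgroup.commutator_mono h1 h2') h2'
  have hmem := hst a hq
  set C := Subgroup.centralizer (P : Set ↥M) with hC
  let D : Subgroup ↥M := (Cfsg.pCore p (↥M ⧸ C)).comap (QuotientGroup.mk' C)
  have hDn : D.Normal :=
    (Subgroup.sSup_normal _ (fun _ h => h.1) : (Cfsg.pCore p (↥M ⧸ C)).Normal).comap _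
  have hDp : IsPGroup p D := by
    intro d
    obtain ⟨k, hk⟩ := (pCore_isPGroup' p (↥M ⧸ C)) ⟨QuotientGroup.mk' C d.1, d.2⟩
    have hk' : (QuotientGroup.mk' C (d.1)) ^ p ^ k = 1 := by
      simpa using congrArg Subtype.val hk
    have hdC : (d.1) ^ p ^ k ∈ C := by
      rw [← map_pow] at hk'
      exact (QuotientGroup.eq_one_iff _).1 hk'
    obtain ⟨j, hj⟩ := hPp ⟨_, hc hdC⟩
    refine ⟨k + j, ?_⟩
    apply Subtype.ext
    have hj' : ((d.1) ^ p ^ k) ^ p ^ j = 1 := by
      simpa using congrArg Subtype.val hj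
    rw [Subgroup.coe_pow, Subgroup.coe_one, pow_add, pow_mul]
    exact hj'
  have hle : D ≤ P := le_sSup ⟨hDn, hDp⟩
  exact ⟨a, hle hmem, rfl⟩

end Cfsg.Agent.Lib.Helper77.PP
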